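import Cfsg.Agent.J2.HundredAbs
import Cfsg.Agent.LieClassical.FieldTransfer
import Cfsg.Agent.H819.U33.Trip

/-!
# S5525, piece A1 (helper921): `U₃(3)` is generated by a triple `Trip u y x`

`exists_trip : (K ≃* PSU 3 F 3) → |F| = 9 → ∃ u y x : K, Trip u y x ∧ closure {u, y, x} = ⊤`.

The model: the group generated by the four permutations `J2.U33.sig` of the 63 non-isotropic points.
-/

set_option autoImplicit false

namespace Cfsg.Agent.H921.U33

open Cfsg Cfsg.Agent.H819.U33 Cfsg.Agent.J2.U33

theorem wp_append (v w : List (Fin 4)) : wp (v ++ w) = wp v * wp w := by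
  simp [wp]

theorem sig_mul_self (s : Fin 4) : sig s * sig s = 1 := by
  ext i
  simp only [Equiv.Perm.mul_apply, sig_apply, tab_tab, Equiv.Perm.one_apply]

theorem wp_inv (w : List (Fin 4)) : (wp w)⁻¹ = wp w.reverse := by
  induction w with
  | nil => simp [wp]
  | cons s w ih =>
    have h1 : wp (s :: w) = sig s * wp w := by simp [wp]
    have h2 : wp [s] = sig s := by simp [wp]
    have h3 : (sig s)⁻¹ = sig s := inv_eq_of_mul_eq_one_right (sig_mul_self s)
    rw [h1, mul_inv_rev, ih, List.reverse_cons, wp_append, h2, h3]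

theorem wp_eq {v w : List (Fin 4)} (h : ∀ i, ev v i = ev w i) : wp v = wp w := by
  ext i
  rw [wp_apply, wp_apply, h i]

theorem wp_nil : wp [] = 1 := rfl

/-- `u` (order 7) -/
def lu : List (Fin 4) := [0, 1, 2]
/-- `y` (order 3) -/
def ly : List (Fin 4) := [1, 3, 2, 3]
/-- `x` (order 3) -/
def lx : List (Fin 4) := [0, 2, 1, 3, 0, 1, 3, 0, 2, 1]

theorem wp_ne {v w : List (Fin 4)} (h : ∃ i, ev v i ≠ ev w i) : wp v ≠ wp w := by
  obtain ⟨i, hi⟩ := h
  intro h1
  apply hi
  rw [← wp_apply, ← wp_apply, h1]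

/-- the triple in the permutation model -/
theorem trip_perm : Trip (wp lu) (wp ly) (wp lx) where
  u7 := by
    simp only [pow_succ, pow_zero, one_mul, ← wp_append, ← wp_nil]
    exact wp_eq (by decide +kernel)
  u1 := by
    rw [← wp_nil]
    exact wp_ne ⟨0, by decide +kernel⟩
  y3 := by
    simp only [pow_succ, pow_zero, one_mul, ← wp_append, ← wp_nil]
    exact wp_eq (by decide +kernel)
  x3 := by
    simp only [pow_succ, pow_zero, one_mul, ← wp_append, ← wp_nil]
    exact wp_eq (by decide +kernel)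
  x1 := by
    rw [← wp_nil]
    exact wp_ne ⟨0, by decide +kernel⟩
  yu := by
    simp only [pow_succ, pow_zero, one_mul, wp_inv, ← wp_append]
    exact wp_eq (by decide +kernel)
  xy := by
    simp only [← wp_append]
    exact wp_eq (by decide +kernel)
  rel := by
    simp only [pow_succ, pow_zero, one_mul, wp_inv, ← wp_append]
    exact wp_eq (by decide +kernel)
  q3 := by
    simp only [pow_succ, pow_zero, one_mul, wp_inv, ← wp_append, ← wp_nil]
    exact wp_eq (by decide +kernel)
  qx := by
    simp only [pow_succ, pow_zero, one_mul, wp_inv, ← wp_append]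
    exact wp_eq (by decide +kernel)
  yq := by
    simp only [pow_succ, pow_zero, one_mul, wp_inv, ← wp_append]
    exact wp_eq (by decide +kernel)
  xw := by
    simp only [pow_succ, pow_zero, one_mul, wp_inv, ← wp_append]
    exact wp_eq (by decide +kernel)
  yw := by
    simp only [pow_succ, pow_zero, one_mul, wp_inv, ← wp_append]
    exact wp_eq (by decide +kernel)
  qw := by
    simp only [pow_succ, pow_zero, one_mul, wp_inv, ← wp_append]
    exact wp_eq (by decide +kernel)

/-- the generators as words in `u`, `y`, `x` -/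
theorem sig_words :
    sig 0 = wp ly * wp lu * (wp lx)⁻¹ * (wp lu)⁻¹ * (wp lx)⁻¹ * (wp lu)⁻¹ * wp ly * (wp lx)⁻¹ ∧
    sig 1 = wp lu * wp lx * wp lu * (wp lx)⁻¹ * wp lu * wp lx * wp lu * (wp ly)⁻¹ * (wp lx)⁻¹ ∧
    sig 2 = wp ly * (wp lu)⁻¹ * wp lx * wp lu * wp lx * wp lu * wp ly * wp lx ∧
    sig 3 = wp lx * (wp lu)⁻¹ * wp ly * wp lx * wp lu * wp lx * wp lu := by
  have h : ∀ s, sig s = wp [s] := fun s => by simp [wp]
  refine ⟨?_, ?_, ?_, ?_⟩ <;>
  · rw [h]
    simp only [wp_inv, ← wp_append]
    exact wp_eq (by decide +kernel)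

/-- a subgroup of the model containing the triple is everything -/
theorem closure_sig_le (L : Subgroup (Equiv.Perm (Fin 63))) (hu : wp lu ∈ L) (hy : wp ly ∈ L) (hx : wp lx ∈ L) :
    Subgroup.closure (Set.range sig) ≤ L := by
  obtain ⟨h0, h1, h2, h3⟩ := sig_words
  have hu' := L.inv_mem hu
  have hy' := L.inv_mem hy
  have hx' := L.inv_mem hx
  rw [Subgroup.closure_le]
  rintro _ ⟨s, rfl⟩
  fin_cases s
  · show sig 0 ∈ L
    rw [h0]
    exact mul_mem (mul_mem (mul_mem (mul_mem (mul_mem (mul_mem (mul_mem hy hu) hx') hu') hx') hu') hy) hx'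
  · show sig 1 ∈ L
    rw [h1]
    exact mul_mem (mul_mem (mul_mem (mul_mem (mul_mem (mul_mem (mul_mem (mul_mem hu hx) hu) hx') hu) hx) hu) hy') hx'
  · show sig 2 ∈ L
    rw [h2]
    exact mul_mem (mul_mem (mul_mem (mul_mem (mul_mem (mul_mem (mul_mem hy hu') hx) hu) hx) hu) hy) hx
  · show sig 3 ∈ L
    rw [h3]
    exact mul_mem (mul_mem (mul_mem (mul_mem (mul_mem (mul_mem hx hu') hy) hx) hu) hx) hu

/-- reflect `Trip` along an injective homomorphism -/
theorem trip_of_map {K L : Type*} [Group K] [Group L] {u y x : K} (φ : K →* L) (hφ : Function.Injective φ)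
    (h : Trip (φ u) (φ y) (φ x)) : Trip u y x where
  u7 := hφ (by rw [map_pow, h.u7, map_one])
  u1 h1 := h.u1 (by rw [h1, map_one])
  y3 := hφ (by rw [map_pow, h.y3, map_one])
  x3 := hφ (by rw [map_pow, h.x3, map_one])
  x1 h1 := h.x1 (by rw [h1, map_one])
  yu := hφ (by have := h.yu; simpa only [map_mul, map_inv, map_pow] using this)
  xy := hφ (by have := h.xy; simpa only [map_mul, map_inv, map_pow] using this)
  rel := hφ (by have := h.rel; simpa only [map_mul, map_inv, map_pow] using this)
  q3 := hφ (by have := h.q3; simpa only [map_mul, map_inv, map_pow, map_one] using this)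
  qx := hφ (by have := h.qx; simpa only [map_mul, map_inv, map_pow] using this)
  yq := hφ (by have := h.yq; simpa only [map_mul, map_inv, map_pow] using this)
  xw := hφ (by have := h.xw; simpa only [map_mul, map_inv, map_pow] using this)
  yw := hφ (by have := h.yw; simpa only [map_mul, map_inv, map_pow] using this)
  qw := hφ (by have := h.qw; simpa only [map_mul, map_inv, map_pow] using this)

/-- **A1**: `U₃(3)` is generated by a triple -/
theorem exists_trip {K : Type*} [Group K] {F : Type*} [Field F] [Fintype F] (hF : Fintype.card F = 9)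
    (e : K ≃* PSU 3 F 3) : ∃ u y x : K, Trip u y x ∧ Subgroup.closure ({u, y, x} : Set K) = ⊤ := by
  classical
  obtain ⟨e1⟩ := Cfsg.Agent.SporadicStructure.PsuMatch.psu_iso_closure_of_match (K := K9) (X := Fin 63) (ι := Fin 4)
    (n := 3) (q := 3) card_k9 le_rfl vec (fun i j c hc h => vec_nonprop i j c hc h) su sig
    (fun j i => su_mulVec j i) (by rw [Cfsg.Agent.J2.HundredAbs.card_psu_three]; exact card_closure_sig)
  let ε : K ≃* Subgroup.closure (Set.range sig) :=
    (e.trans (Cfsg.Agent.LieClassical.FieldTransfer.psuCongr 3 3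
      (FiniteField.ringEquivOfCardEq (hF.trans card_k9.symm)))).trans e1
  have hmem := wp_mem
  let u : K := ε.symm ⟨wp lu, hmem _⟩
  let y : K := ε.symm ⟨wp ly, hmem _⟩
  let x : K := ε.symm ⟨wp lx, hmem _⟩
  let φ : K →* Equiv.Perm (Fin 63) := (Subgroup.closure (Set.range sig)).subtype.comp ε.toMonoidHom
  have hφ : Function.Injective φ := (Subgroup.subtype_injective _).comp ε.injective
  have hu : φ u = wp lu := congrArg Subtype.val (ε.apply_symm_apply ⟨wp lu, hmem _⟩)
  have hy : φ y = wp ly := congrArg Subtype.val (ε.apply_symm_apply ⟨wp ly, hmem _⟩)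
  have hx : φ x = wp lx := congrArg Subtype.val (ε.apply_symm_apply ⟨wp lx, hmem _⟩)
  refine ⟨u, y, x, trip_of_map φ hφ (by rw [hu, hy, hx]; exact trip_perm), ?_⟩
  rw [eq_top_iff]
  intro k _
  have h1 := closure_sig_le ((Subgroup.closure ({u, y, x} : Set K)).map φ)
    ⟨u, Subgroup.subset_closure (by simp), hu⟩ ⟨y, Subgroup.subset_closure (by simp), hy⟩
    ⟨x, Subgroup.subset_closure (by simp), hx⟩
  obtain ⟨k', hk', he⟩ := h1 (ε k).2
  have h2 : k' = k := hφ he
  rw [← h2]
  exact hk'

end Cfsg.Agent.H921.U33
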