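import Cfsg.Agent.H819.U33.Base
import Cfsg.Agent.H921.U33.TripEx
import Cfsg.Agent.KFacts.Baby.Sheet
import Cfsg.Agent.S1704

/-!
# S5525, piece A2 (helper921): the assembly

`of_main` : if every triple `Trip u y x` in the model `G` of the Baby Monster has a nontrivial centralizer, then every subgroup
`U₃(3)` of the presented group has a nontrivial centralizer (the statement of S5525).
-/

set_option autoImplicit false

namespace Cfsg.Agent.H921.U33

open Cfsg Cfsg.Agent.H819.U33

/-- a group with the triple property -/
def Centr (L : Type*) [Group L] : Prop :=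
  ∀ u y x : L, Trip u y x → ∃ c : L, c ≠ 1 ∧ c * u = u * c ∧ c * y = y * c ∧ c * x = x * c

/-- the centralizer of `⟨u, y, x⟩` -/
theorem commute_closure {L : Type*} [Group L] {u y x c : L} (hu : c * u = u * c) (hy : c * y = y * c)
    (hx : c * x = x * c) : ∀ h ∈ Subgroup.closure ({u, y, x} : Set L), h * c = c * h := by
  intro h hh
  have h1 : Subgroup.closure ({u, y, x} : Set L) ≤ Subgroup.centralizer ({c} : Set L) := by
    rw [Subgroup.closure_le]
    intro k hk
    simp only [Set.mem_insert_iff, Set.mem_singleton_iff] at hk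
    rw [SetLike.mem_coe, Subgroup.mem_centralizer_singleton_iff]
    rcases hk with rfl | rfl | rfl
    · exact hu.symm
    · exact hy.symm
    · exact hx.symm
  exact Subgroup.mem_centralizer_singleton_iff.1 (h1 hh)

/-- the centralizer of a subgroup `U₃(3)` of a group with the triple property -/
theorem Centr.ne_bot {L : Type*} [Group L] (hL : Centr L) {F : Type*} [Field F] [Fintype F]
    (hF : Fintype.card F = 9) (H : Subgroup L) (hH : Nonempty (H ≃* PSU 3 F 3)) :
    Subgroup.centralizer (H : Set L) ≠ ⊥ := by
  obtain ⟨e⟩ := hH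
  obtain ⟨u, y, x, ht, hcl⟩ := exists_trip hF e
  obtain ⟨c, hc1, hu, hy, hx⟩ := hL _ _ _ (ht.map H.subtype (Subgroup.subtype_injective H))
  intro hbot
  apply hc1
  have h1 : c ∈ Subgroup.centralizer (H : Set L) := by
    rw [Subgroup.mem_centralizer_iff]
    intro h hh
    have h2 : Subgroup.closure ({H.subtype u, H.subtype y, H.subtype x} : Set L) = H := by
      have h3 := congrArg (Subgroup.map H.subtype) hcl
      rw [MonoidHom.map_closure, Set.image_insert_eq, Set.image_insert_eq, Set.image_singleton,
        ← MonoidHom.range_eq_map, Subgroup.range_subtype] at h3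
      exact h3
    refine commute_closure hu hy hx h ?_
    rw [h2]
    exact hh
  rw [hbot] at h1
  exact Subgroup.mem_bot.1 h1

/-- transport of the triple property -/
theorem Centr.congr {L L' : Type*} [Group L] [Group L'] (e : L' ≃* L) (hL : Centr L) : Centr L' := by
  intro u y x ht
  obtain ⟨c, hc1, hu, hy, hx⟩ := hL _ _ _ (ht.map e.toMonoidHom e.injective)
  have key : ∀ v : L', c * e.toMonoidHom v = e.toMonoidHom v * c → e.symm c * v = v * e.symm c := by
    intro v hv
    apply e.injective
    rw [map_mul, map_mul, e.apply_symm_apply]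
    exact hv
  refine ⟨e.symm c, ?_, key u hu, key y hy, key x hx⟩
  intro h1
  apply hc1
  rw [← e.apply_symm_apply c, h1, map_one]

/-- **A2**: S5525 from the triple property of the model -/
theorem of_main (main : Centr G) {F : Type*} [Field F] [Fintype F] (hF : Fintype.card F = 9)
    (H : Subgroup Cfsg.Spor.BabyMonster) (hH : Nonempty (↥H ≃* Cfsg.PSU 3 F 3)) :
    Subgroup.centralizer (H : Set Cfsg.Spor.BabyMonster) ≠ ⊥ := by
  have : IsSimpleGroup Spor.BabyMonster := Cfsg.Agent.S1704.result.1
  obtain ⟨e⟩ := Cfsg.Agent.KFacts.Baby.Sheet.exists_iso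
  exact Centr.ne_bot (main.congr e) hF H hH

end Cfsg.Agent.H921.U33
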