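import Cfsg.Agent.H921.U33.TypeTwoAsm
import Cfsg.Agent.H109.U33.Fin

/-!
# S5525, type II: tools for the check files (helper921)

* `vec n` : the vector with code `n` (base 3, little endian);
* `bad U wy1 we n b` : kernel test, `bad = true → ¬ Trip (g U) y (nf (g wy1) e (vec n) b)`; `bad3` : the three values of `b`;
* `hrep_of` : the hypothesis `hrep` of `typeII` from `bad3`;
* `map_code_vec` : the codes of the list of the representatives (for helper109's `hfin_of`).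
-/

set_option autoImplicit false

namespace Cfsg.Agent.H921.U33

open Cfsg.Agent.H819.U33 Cfsg.Agent.H863.U33 Cfsg.Agent.H524.U33
open Cfsg.Agent.BabyM.Conc Cfsg.Agent.BabyM.TransInv

/-- digit -/
def dg (n j : ℕ) : ℕ := n / 3 ^ j % 3

/-- the vector with a given code -/
def vec (n : ℕ) : Fin 8 → ZMod 3 := fun j => ((n / 3 ^ (j : ℕ) : ℕ) : ZMod 3)

theorem val_vec (n : ℕ) (j : Fin 8) : (vec n j).val = dg n j := ZMod.val_natCast 3 _

/-- the word of the normal form of `vec n` and `b` -/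
def nfn (wy1 : List Ltr) (we : ℕ → List Ltr) (n b : ℕ) : List Ltr :=
  pw (we 0) (dg n 0) ++ (pw (we 1) (dg n 1) ++ (pw (we 2) (dg n 2) ++ (pw (we 3) (dg n 3) ++ (pw (we 4) (dg n 4) ++
    (pw (we 5) (dg n 5) ++ (pw (we 6) (dg n 6) ++ (pw (we 7) (dg n 7) ++ pw wy1 b)))))))

theorem g_nfn (wy1 : List Ltr) (we : ℕ → List Ltr) (n : ℕ) (b : ZMod 3) :
    g (nfn wy1 we n b.val) = nf (g wy1) (fun j : Fin 8 => g (we j)) (vec n) b := by
  simp only [nfn, nf, g_append, g_pw, val_vec]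
  simp only [mul_assoc]
  rfl

/-- the kernel test: the relation `rel` fails -/
noncomputable def bad (U wy1 : List Ltr) (we : ℕ → List Ltr) (n b : ℕ) : Bool :=
  (fun X => ne (X ++ (U ++ (X ++ (winv U ++ (winv X ++ (winv U ++ (X ++ (U ++ X)))))))) (winv U ++ winv U))
    (nfn wy1 we n b)

theorem bad_spec {U wy1 : List Ltr} {we : ℕ → List Ltr} {n : ℕ} {b : ZMod 3} (h : bad U wy1 we n b.val = true) (y : G) :
    ¬ Trip (g U) y (nf (g wy1) (fun j : Fin 8 => g (we j)) (vec n) b) := by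
  rw [← g_nfn]
  apply not_trip_rel
  simp only [List.append_assoc]
  exact h

/-- three tests -/
noncomputable def bad3 (U wy1 : List Ltr) (we : ℕ → List Ltr) (n : ℕ) : Bool :=
  and (bad U wy1 we n 0) (and (bad U wy1 we n 1) (bad U wy1 we n 2))

theorem bad3_spec {U wy1 : List Ltr} {we : ℕ → List Ltr} {n : ℕ} (h : bad3 U wy1 we n = true) (b : ZMod 3) :
    bad U wy1 we n b.val = true := by
  unfold bad3 at h
  rw [Bool.and_eq_true, Bool.and_eq_true] at h
  fin_cases b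
  · exact h.1
  · exact h.2.1
  · exact h.2.2

/-- **The hypothesis `hrep`.** -/
theorem hrep_of {U wy1 : List Ltr} {we : ℕ → List Ltr} {codes : List ℕ} (h : ∀ n ∈ codes, bad3 U wy1 we n = true)
    {u y1 : G} {e : Fin 8 → G} (hu : u = g U) (hy : y1 = g wy1) (he : ∀ j : Fin 8, e j = g (we j)) :
    ∀ v ∈ codes.map vec, ∀ b, ¬ Trip u y1 (nf y1 e v b) := by
  intro v hv b
  obtain ⟨n, hn, rfl⟩ := List.mem_map.1 hv
  have he' : e = fun j : Fin 8 => g (we j) := funext he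
  rw [hu, hy, he']
  exact bad_spec (bad3_spec (h n hn) b) _

/-! ### shorter words: `e (j + 4) = r⁻¹ (e j) r` -/

/-- the word of the normal form, `e₄, …, e₇` conjugates of `e₀, …, e₃` by `r` -/
def nfr (wy1 wr w0 w1 w2 w3 : List Ltr) (n b : ℕ) : List Ltr :=
  pw w0 (dg n 0) ++ (pw w1 (dg n 1) ++ (pw w2 (dg n 2) ++ (pw w3 (dg n 3) ++ (winv wr ++ (pw w0 (dg n 4) ++
    (pw w1 (dg n 5) ++ (pw w2 (dg n 6) ++ (pw w3 (dg n 7) ++ (wr ++ pw wy1 b)))))))))

/-- the generators as words -/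
def GenR (wy1 wr w0 w1 w2 w3 : List Ltr) (y1 : G) (e : Fin 8 → G) : Prop :=
  y1 = g wy1 ∧ e 0 = g w0 ∧ e 1 = g w1 ∧ e 2 = g w2 ∧ e 3 = g w3 ∧ e 4 = (g wr)⁻¹ * g w0 * g wr ∧
    e 5 = (g wr)⁻¹ * g w1 * g wr ∧ e 6 = (g wr)⁻¹ * g w2 * g wr ∧ e 7 = (g wr)⁻¹ * g w3 * g wr

theorem conj_pow' (r x : G) (n : ℕ) : (r⁻¹ * x * r) ^ n = r⁻¹ * x ^ n * r := by
  induction n with
  | zero => rw [pow_zero, pow_zero]; group
  | succ n ih => rw [pow_succ, pow_succ, ih]; group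

theorem g_nfr {wy1 wr w0 w1 w2 w3 : List Ltr} {y1 : G} {e : Fin 8 → G} (h : GenR wy1 wr w0 w1 w2 w3 y1 e) (n : ℕ)
    (b : ZMod 3) : g (nfr wy1 wr w0 w1 w2 w3 n b.val) = nf y1 e (vec n) b := by
  obtain ⟨hy, h0, h1, h2, h3, h4, h5, h6, h7⟩ := h
  simp only [nfr, nf, g_append, g_pw, g_winv, val_vec]
  rw [h0, h1, h2, h3, h4, h5, h6, h7, hy, conj_pow', conj_pow', conj_pow', conj_pow']
  simp only [mul_assoc, mul_inv_cancel_left]
  rfl

/-- the kernel test: the relation `rel` fails -/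
noncomputable def badr (U wy1 wr w0 w1 w2 w3 : List Ltr) (n b : ℕ) : Bool :=
  (fun X => ne (X ++ (U ++ (X ++ (winv U ++ (winv X ++ (winv U ++ (X ++ (U ++ X)))))))) (winv U ++ winv U))
    (nfr wy1 wr w0 w1 w2 w3 n b)

theorem badr_spec {U wy1 wr w0 w1 w2 w3 : List Ltr} {y1 : G} {e : Fin 8 → G} (hg : GenR wy1 wr w0 w1 w2 w3 y1 e)
    {n : ℕ} {b : ZMod 3} (h : badr U wy1 wr w0 w1 w2 w3 n b.val = true) (y : G) :
    ¬ Trip (g U) y (nf y1 e (vec n) b) := by
  rw [← g_nfr hg]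
  apply not_trip_rel
  simp only [List.append_assoc]
  exact h

/-- the three tests of a code, each checked separately -/
def BadR (U wy1 wr w0 w1 w2 w3 : List Ltr) (n : ℕ) : Prop :=
  badr U wy1 wr w0 w1 w2 w3 n 0 = true ∧ badr U wy1 wr w0 w1 w2 w3 n 1 = true ∧ badr U wy1 wr w0 w1 w2 w3 n 2 = true

/-- **The hypothesis `hrep`**, second form. -/
theorem hrep_ofR {U wy1 wr w0 w1 w2 w3 : List Ltr} {codes : List ℕ}
    (h : ∀ n ∈ codes, BadR U wy1 wr w0 w1 w2 w3 n) {u y1 : G} {e : Fin 8 → G} (hu : u = g U)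
    (hg : GenR wy1 wr w0 w1 w2 w3 y1 e) : ∀ v ∈ codes.map vec, ∀ b, ¬ Trip u y1 (nf y1 e v b) := by
  intro v hv b
  obtain ⟨n, hn, rfl⟩ := List.mem_map.1 hv
  obtain ⟨h0, h1, h2⟩ := h n hn
  rw [hu]
  refine badr_spec hg (b := b) ?_ y1
  fin_cases b
  · exact h0
  · exact h1
  · exact h2

/-- the codes of the vectors -/
theorem code_vec {n : ℕ} (hn : n < 6561) : Cfsg.Agent.H109.U33.code (vec n) = n := by
  unfold Cfsg.Agent.H109.U33.code
  simp only [val_vec, dg]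
  simp only [Fin.val_zero, Fin.val_one, pow_zero, Nat.div_one, pow_one,
    show ((2 : Fin 8) : ℕ) = 2 from rfl, show ((3 : Fin 8) : ℕ) = 3 from rfl, show ((4 : Fin 8) : ℕ) = 4 from rfl,
    show ((5 : Fin 8) : ℕ) = 5 from rfl, show ((6 : Fin 8) : ℕ) = 6 from rfl, show ((7 : Fin 8) : ℕ) = 7 from rfl]
  norm_num
  omega

theorem map_code_vec {codes : List ℕ} (h : ∀ n ∈ codes, n < 6561) :
    (codes.map vec).map Cfsg.Agent.H109.U33.code = codes := by
  rw [List.map_map]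
  conv_rhs => rw [← List.map_id codes]
  exact List.map_congr_left fun n hn => code_vec (h n hn)

end Cfsg.Agent.H921.U33
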